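/-
Groups with elements satisfying the relators inside the rank two subsystems: transport by the
fundamental Weyl elements, and the resulting family of lifts.
-/
import Cfsg.Agent.Lib.Chev.CT.Main

set_option autoImplicit false
set_option linter.unusedSectionVars false

namespace CfsgLib.Chev.CT

open Cfsg.Lie

universe u v

variable {D : ChevalleyDatum} {co : ℕ → ℕ → ℤ} {K : Type u} [Field K] {H : Type v} [Group H]

/-- The relators inside rank two subsystems. -/
structure Loc2 (D : ChevalleyDatum) (π : H →* GL D.Idx K) (y : ℕ → K → H) : Prop where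
  proj : ∀ r t, Loc D r → π (y r t) = xU D r t
  add : ∀ r t u, Loc D r → y r t * y r u = y r (t + u)
  comm : ∀ i j r s, D.InRankTwoSub i j r → D.InRankTwoSub i j s → s ≠ r → s ≠ D.neg r → ∀ t u,
    y s u * y r t = y r t * y s u * ((cwR D r s t u).map fun p => y p.1 p.2).prod
  hmul : ∀ i < D.rank, ∀ a b : K, a ≠ 0 → b ≠ 0 →
    hG D y (D.simple i) a * hG D y (D.simple i) b = hG D y (D.simple i) (a * b)

/-- The subgroup generated by the elements of the roots in a set. -/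
def ycl (D : ChevalleyDatum) (y : ℕ → K → H) (P : ℕ → Prop) : Subgroup H :=
  Subgroup.closure {x | ∃ (r : ℕ) (t : K), r < D.nroots ∧ P r ∧ x = y r t}

theorem mem_ycl {y : ℕ → K → H} {P : ℕ → Prop} {r : ℕ} (hr : r < D.nroots) (h : P r) (t : K) :
    y r t ∈ ycl D y P := Subgroup.subset_closure ⟨r, t, hr, h, rfl⟩

theorem sub_terms (hF : Facts D co) {i j r s : ℕ} (hr : D.InRankTwoSub i j r)
    (hs : D.InRankTwoSub i j s) {c : ℕ × ℤ × ℕ × ℕ} (hc : c ∈ D.commTerms r s) :
    D.InRankTwoSub i j c.1 := by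
  have hc1 := (hF.commTerms_wt hF.isWeight_omega hr.1 hs.1 hc).1
  refine ⟨hc1, hr.2.1, hr.2.2.1, fun k hk h1 h2 => (hF.cor_supp _ hc1 k hk).2 ?_⟩
  rw [(hF.commTerms_wt (hF.isWeight_co hk) hr.1 hs.1 hc).2.2.2,
    (hF.cor_supp r hr.1 k hk).1 (hr.2.2.2 k hk h1 h2),
    (hF.cor_supp s hs.1 k hk).1 (hs.2.2.2 k hk h1 h2)]
  simp

variable {π : H →* GL D.Idx K} {y : ℕ → K → H}

section L

variable (hF : Facts D co) (hL : Loc2 D π y)
include hF hL

theorem Loc2.zero {r : ℕ} (h : Loc D r) : y r 0 = 1 := by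
  have := hL.add r 0 0 h
  rwa [add_zero, mul_eq_left] at this

theorem Loc2.inv {r : ℕ} (h : Loc D r) (t : K) : (y r t)⁻¹ = y r (-t) :=
  inv_eq_of_mul_eq_one_right (by rw [hL.add r t (-t) h, add_neg_cancel, hL.zero hF h])

theorem Loc2.conj_mem {i j a : ℕ} (ha : D.InRankTwoSub i j a) {P : ℕ → Prop}
    (h : ∀ s < D.nroots, P s → D.InRankTwoSub i j s ∧ s ≠ D.neg a ∧
      (a ≠ s → ∀ c ∈ D.commTerms a s, P c.1)) (u : K)
    {x : H} (hx : x ∈ ycl D y P) : y a u * x * (y a u)⁻¹ ∈ ycl D y P := by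
  have hla : Loc D a := ⟨i, j, ha⟩
  induction hx using Subgroup.closure_induction with
  | mem z hz =>
    obtain ⟨s, t, hs, hP, rfl⟩ := hz
    by_cases he : a = s
    · subst he
      rw [hL.inv hF hla, hL.add _ _ _ hla, hL.add _ _ _ hla, show u + t + -u = t by ring]
      exact mem_ycl hs hP t
    · obtain ⟨h1, h2, h3⟩ := h s hs hP
      rw [hL.inv hF hla, mul_assoc, hL.comm i j a s ha h1 (Ne.symm he) h2, ← mul_assoc,
        ← mul_assoc, hL.add _ _ _ hla, add_neg_cancel, hL.zero hF hla, one_mul]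
      refine mul_mem (mem_ycl hs hP t) (Subgroup.list_prod_mem _ fun w hw => ?_)
      obtain ⟨p, hp, rfl⟩ := List.mem_map.1 hw
      obtain ⟨c, hc, rfl⟩ := List.mem_map.1 hp
      exact mem_ycl (hF.commTerms_wt hF.isWeight_omega ha.1 hs hc).1 (h3 he c hc) _
  | one => simp
  | mul p q _ _ hp hq =>
    rw [show y a u * (p * q) * (y a u)⁻¹ =
      (y a u * p * (y a u)⁻¹) * (y a u * q * (y a u)⁻¹) by group]
    exact mul_mem hp hq
  | inv p _ hp =>
    rw [show y a u * p⁻¹ * (y a u)⁻¹ = (y a u * p * (y a u)⁻¹)⁻¹ by group]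
    exact inv_mem hp

theorem Loc2.split {i j m : ℕ} (hm : D.InRankTwoSub i j m) {P : ℕ → Prop}
    (h : ∀ s < D.nroots, P s ∧ s ≠ m → D.InRankTwoSub i j s ∧ s ≠ D.neg m ∧
      (m ≠ s → ∀ c ∈ D.commTerms m s, P c.1 ∧ c.1 ≠ m))
    {g : H} (hg : g ∈ ycl D y P) :
    ∃ a : K, ∃ g' ∈ ycl D y (fun r => P r ∧ r ≠ m), g = y m a * g' := by
  have hlm : Loc D m := ⟨i, j, hm⟩
  induction hg using Subgroup.closure_induction with
  | mem x hx =>
    obtain ⟨r, t, hr, hP, rfl⟩ := hx
    by_cases e : r = m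
    · exact ⟨t, 1, one_mem _, by rw [e, mul_one]⟩
    · exact ⟨0, y r t, mem_ycl hr ⟨hP, e⟩ t, by rw [hL.zero hF hlm, one_mul]⟩
  | one => exact ⟨0, 1, one_mem _, by rw [hL.zero hF hlm, one_mul]⟩
  | mul x z _ _ hx hz =>
    obtain ⟨a, x', hx', rfl⟩ := hx
    obtain ⟨b, z', hz', rfl⟩ := hz
    refine ⟨a + b, (y m b)⁻¹ * x' * y m b * z', mul_mem ?_ hz', ?_⟩
    · rw [hL.inv hF hlm]
      have := hL.conj_mem hF hm h (-b) hx'
      rwa [hL.inv hF hlm, neg_neg] at this
    · rw [← hL.add m a b hlm]; group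
  | inv x _ hx =>
    obtain ⟨a, x', hx', rfl⟩ := hx
    refine ⟨-a, y m a * x'⁻¹ * (y m a)⁻¹, hL.conj_mem hF hm h a (inv_mem hx'), ?_⟩
    rw [← hL.inv hF hlm]; group

theorem Loc2.faithful {i j : ℕ} {f : ℕ → ℤ} (hf : IsWeight D f) {g : H}
    (hg : g ∈ ycl D y (fun r => D.InRankTwoSub i j r ∧ 0 < f r)) (h1 : π g = 1) : g = 1 := by
  classical
  obtain ⟨w, hw, hwpos, hwinj⟩ := hF.exists_injective_weight hf
  suffices ∀ (n : ℕ) (P : ℕ → Prop),
      ((Finset.range D.nroots).filter P).card = n →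
      (∀ r < D.nroots, P r → D.InRankTwoSub i j r ∧ 0 < w r) →
      (∀ r < D.nroots, ∀ s < D.nroots, P r → P s → r ≠ s → ∀ c ∈ D.commTerms r s, P c.1) →
      ∀ g ∈ ycl D y P, π g = 1 → g = 1 from
    this _ _ rfl (fun r hr hP => ⟨hP.1, hwpos r hr hP.2⟩) (fun r hr s hs hPr hPs _ c hc => by
      obtain ⟨-, hi, hj, hwc⟩ := hF.commTerms_wt hf hr hs hc
      refine ⟨sub_terms hF hPr.1 hPs.1 hc, ?_⟩
      rw [hwc]
      exact add_pos (nsmul_pos hPr.2 hi.ne') (nsmul_pos hPs.2 hj.ne')) g hg h1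
  intro n
  induction n with
  | zero =>
    intro P hn _ _ g hg _
    have : ycl D y P = ⊥ := by
      rw [eq_bot_iff]
      refine (Subgroup.closure_le _).2 ?_
      rintro x ⟨r, t, hr, hP, -⟩
      have : r ∈ (Finset.range D.nroots).filter P :=
        Finset.mem_filter.2 ⟨Finset.mem_range.2 hr, hP⟩
      rw [Finset.card_eq_zero.1 hn] at this
      simp at this
    rwa [this, Subgroup.mem_bot] at hg
  | succ n ih =>
    intro P hn hp hc g hg hg1
    obtain ⟨m, hmem, hmin⟩ := ((Finset.range D.nroots).filter P).exists_min_image w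
      (Finset.card_pos.1 (by omega))
    rw [Finset.mem_filter, Finset.mem_range] at hmem
    obtain ⟨hm, hPm⟩ := hmem
    have hlt : ∀ s < D.nroots, P s → s ≠ m → w m < w s := fun s hs hP hne =>
      lt_of_le_of_ne (hmin s (Finset.mem_filter.2 ⟨Finset.mem_range.2 hs, hP⟩))
        fun e => hne (hwinj m hm s hs e).symm
    have hterm : ∀ r < D.nroots, ∀ s < D.nroots, P r → P s → r ≠ s →
        ∀ c ∈ D.commTerms r s, P c.1 ∧ c.1 ≠ m := by
      intro r hr s hs hPr hPs hrs c hc'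
      refine ⟨hc r hr s hs hPr hPs hrs c hc', fun e => ?_⟩
      obtain ⟨-, hi, hj, hwc⟩ := hF.commTerms_wt hw hr hs hc'
      have h1 := hmin r (Finset.mem_filter.2 ⟨Finset.mem_range.2 hr, hPr⟩)
      have h2 := (hp s hs hPs).2
      simp only [nsmul_eq_mul] at hwc
      have := le_mul_of_one_le_left (hp r hr hPr).2.le
        (show (1 : ℤ) ≤ (c.2.2.1 : ℤ) by omega)
      have := le_mul_of_one_le_left h2.le (show (1 : ℤ) ≤ (c.2.2.2 : ℤ) by omega)
      rw [e] at hwc
      omega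
    have hsm := (hp m hm hPm).1
    obtain ⟨a, g', hg', rfl⟩ := hL.split hF hsm (P := P) (fun s hs hsP =>
      ⟨(hp s hs hsP.1).1, fun e => by
        have h1 := (hp s hs hsP.1).2
        rw [e, hw.neg m hm] at h1
        have := (hp m hm hPm).2
        omega, fun hne => hterm m hm s hs hPm hsP.1 hne⟩) hg
    rw [map_mul, hL.proj m a ⟨i, j, hsm⟩] at hg1
    have hut : UT (wt D w) (w m + 1) ((xU D m a : GL D.Idx K) : Matrix D.Idx D.Idx K) := by
      rw [eq_inv_of_mul_eq_one_left hg1, ← map_inv]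
      have hmap : π g'⁻¹ ∈ rootClosure D K (fun r => P r ∧ r ≠ m) := by
        have hle : ycl D y (fun r => P r ∧ r ≠ m) ≤
            (rootClosure D K (fun r => P r ∧ r ≠ m)).comap π := by
          refine (Subgroup.closure_le _).2 ?_
          rintro x ⟨r, t, hr, hP, rfl⟩
          rw [SetLike.mem_coe, Subgroup.mem_comap, hL.proj r t ⟨i, j, (hp r hr hP.1).1⟩]
          exact xU_mem_rootClosure (P := fun r => P r ∧ r ≠ m) hr hP t
        exact hle (inv_mem hg')
      refine ut_closure (by have := (hp m hm hPm).2; omega) ?_ hmap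
      rintro x ⟨r, t, hr, ⟨hPr, hne⟩, rfl⟩
      have := hlt r hr hPr hne
      have := (hp r hr hPr).2
      rw [hF.xU_inv hr]
      exact ⟨hF.xU_ut_gen hw hr (by omega) (by omega) t,
        hF.xU_ut_gen hw hr (by omega) (by omega) (-t)⟩
    have ha : a = 0 := hF.xU_eq_zero_gen hw hm hut
    subst ha
    rw [hF.xU_zero hm, one_mul] at hg1
    rw [hL.zero hF ⟨i, j, hsm⟩, one_mul]
    refine ih _ ?_ (fun r hr h => hp r hr h.1)
      (fun r hr s hs h1 h2 hne c hc' => hterm r hr s hs h1.1 h2.1 hne c hc') g' hg' hg1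
    refine (congrArg Finset.card (Finset.ext fun x => ?_)).trans
      ((Finset.card_erase_of_mem (Finset.mem_filter.2 ⟨Finset.mem_range.2 hm, hPm⟩)).trans
        (by omega))
    simp only [Finset.mem_filter, Finset.mem_erase]
    tauto

/-- Transport inside a half-space of a rank two subsystem. -/
theorem Loc2.transport {i j a : ℕ} (ha : D.InRankTwoSub i j a) {f : ℕ → ℤ} (hf : IsWeight D f)
    (hfa : f a = 0) {z : H} (hz : z ∈ ycl D y (fun r => r = a ∨ r = D.neg a)) {s q : ℕ}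
    (hs : D.InRankTwoSub i j s) (hq : D.InRankTwoSub i j q) (hfs : 0 < f s) (hfq : 0 < f q)
    {t v : K} (h : π z * xU D s t * (π z)⁻¹ = xU D q v) : z * y s t * z⁻¹ = y q v := by
  set S := ycl D y (fun r => D.InRankTwoSub i j r ∧ 0 < f r) with hS
  have hnorm : ∀ x ∈ S, z * x * z⁻¹ ∈ S := by
    clear h
    suffices H : ∀ x ∈ S, z * x * z⁻¹ ∈ S ∧ z⁻¹ * x * z ∈ S from fun x hx => (H x hx).1
    induction hz using Subgroup.closure_induction with
    | mem w hw =>
      obtain ⟨b, u, hb, hba, rfl⟩ := hw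
      have hsb : D.InRankTwoSub i j b := by
        rcases hba with rfl | rfl
        · exact ha
        · exact sub_neg hF ha
      have hfb : f b = 0 := by
        rcases hba with rfl | rfl
        · exact hfa
        · rw [hf.neg a ha.1, hfa, neg_zero]
      have hh : ∀ x < D.nroots, (D.InRankTwoSub i j x ∧ 0 < f x) →
          D.InRankTwoSub i j x ∧ x ≠ D.neg b ∧
            (b ≠ x → ∀ c ∈ D.commTerms b x, D.InRankTwoSub i j c.1 ∧ 0 < f c.1) := by
        intro x hx hxs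
        refine ⟨hxs.1, fun e => ?_, fun _ c hc => ⟨sub_terms hF hsb hxs.1 hc, ?_⟩⟩
        · have := hxs.2
          rw [e, hf.neg b hb] at this
          omega
        · obtain ⟨-, -, hj', hwc⟩ := hF.commTerms_wt hf hb hx hc
          rw [hwc, hfb, smul_zero, zero_add]
          exact nsmul_pos hxs.2 hj'.ne'
      intro x hx
      refine ⟨hL.conj_mem hF hsb hh u hx, ?_⟩
      have := hL.conj_mem hF hsb hh (-u) hx
      rwa [← hL.inv hF ⟨i, j, hsb⟩, inv_inv] at this
    | one => intro x hx; simp [hx]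
    | mul p q' _ _ hp hq' =>
      intro x hx
      rw [show p * q' * x * (p * q')⁻¹ = p * (q' * x * q'⁻¹) * p⁻¹ by group,
        show (p * q')⁻¹ * x * (p * q') = q'⁻¹ * (p⁻¹ * x * p) * q' by group]
      exact ⟨(hp _ (hq' x hx).1).1, (hq' _ (hp x hx).2).2⟩
    | inv p _ hp =>
      intro x hx
      rw [inv_inv]
      exact ⟨(hp x hx).2, (hp x hx).1⟩
  have h1 := hnorm _ (mem_ycl hs.1 (P := fun r => D.InRankTwoSub i j r ∧ 0 < f r) ⟨hs, hfs⟩ t)
  have h2 : y q v ∈ S := mem_ycl hq.1 ⟨hq, hfq⟩ v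
  refine mul_inv_eq_one.1 (hL.faithful hF hf (mul_mem h1 (inv_mem h2)) ?_)
  rw [map_mul, map_inv, map_mul, map_mul, map_inv, hL.proj s t ⟨i, j, hs⟩,
    hL.proj q v ⟨i, j, hq⟩, h, mul_inv_cancel]

theorem Loc2.proj_nn {i : ℕ} (hi : i < D.rank) :
    π (nG D y (D.simple i) 1) = nU D (D.simple i) 1 := by
  have hs := sub_simple hF hi hi
  rw [nG, map_mul, map_mul, hL.proj _ _ ⟨i, i, hs⟩, hL.proj _ _ ⟨i, i, sub_neg hF hs⟩, nU]

/-- The Weyl element of a fundamental root moves the elements of the other roots. -/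
theorem Loc2.tr_off {i j r : ℕ} (hr : D.InRankTwoSub i j r) (h1 : r ≠ D.simple i)
    (h2 : r ≠ D.neg (D.simple i)) {η : ℕ → ℤ}
    (h3 : ∀ s < D.nroots, ∀ t : K, nU D (D.simple i) 1 * xU D s t =
      xU D (D.reflectRoot i s) ((η s : K) * t) * nU D (D.simple i) 1) (t : K) :
    nG D y (D.simple i) 1 * y r t * (nG D y (D.simple i) 1)⁻¹ =
      y (D.reflectRoot i r) ((η r : K) * t) := by
  have hi := hr.2.1
  have hp := hF.simple_lt' hi
  have hs := sub_simple hF hi hr.2.2.1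
  obtain ⟨f, hf, hfa, hfs, hfq⟩ := hF.exists_halfspace hp hr.1 h1 h2
  have hr' := sub_refl hF hr (Or.inl rfl)
  refine hL.transport hF hs hf hfa (z := nG D y (D.simple i) 1) (mul_mem (mul_mem (mem_ycl hp (Or.inl rfl) _)
    (mem_ycl (hF.neg_lt hp) (Or.inr rfl) _)) (mem_ycl hp (Or.inl rfl) _)) hr hr' hfs
    (by
      rw [hfq _ hr'.1 (D.cartan i r) fun k hk => ?_]
      · exact hfs
      · rw [hF.co_refl i hi r hr.1 k hk, hF.co_simple i hi k hk]
        split_ifs <;> ring) ?_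
  rw [hL.proj_nn hF hi, h3 r hr.1, mul_inv_cancel_right]

/-- The Weyl element of a fundamental root moves its own root elements. -/
theorem Loc2.tr_self (hN : HasNbr D) {i s : ℕ} (hi : i < D.rank)
    (hs : s = D.simple i ∨ s = D.neg (D.simple i)) (t : K) :
    ∃ v, nG D y (D.simple i) 1 * y s t * (nG D y (D.simple i) 1)⁻¹ = y (D.reflectRoot i s) v := by
  obtain ⟨m, hm, hmi, hA⟩ := hN i hi
  have hp := hF.simple_lt' hi
  have hsn : s < D.nroots := by rcases hs with rfl | rfl <;> [exact hp; exact hF.neg_lt hp]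
  have hsub : D.InRankTwoSub i m s := by
    rcases hs with rfl | rfl
    · exact sub_simple hF hi hm
    · exact sub_neg hF (sub_simple hF hi hm)
  obtain ⟨e, he, hcos⟩ : ∃ e : ℤ, e ≠ 0 ∧ ∀ k < D.rank, co s k = e * if i = k then 1 else 0 := by
    rcases hs with rfl | rfl
    · exact ⟨1, one_ne_zero, fun k hk => by rw [hF.co_simple i hi k hk, one_mul]⟩
    · exact ⟨-1, by norm_num, fun k hk => by
        rw [hF.co_neg _ hp k hk, hF.co_simple i hi k hk, neg_one_mul]⟩
  have hAs : D.cartan m s ≠ 0 := by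
    rcases hs with rfl | rfl
    · exact hA
    · rw [hF.cartan_neg _ hp m hm]; exact neg_ne_zero.2 hA
  set s' := D.reflectRoot m s with hs'd
  have hsub' : D.InRankTwoSub i m s' := sub_refl hF hsub (Or.inr rfl)
  have hcs' : ∀ k < D.rank, co s' k = co s k - if m = k then D.cartan m s else 0 :=
    fun k hk => hF.co_refl m hm s hsn k hk
  have hm' : co s' m ≠ 0 := by
    rw [hcs' m hm, hcos m hm, if_neg hmi.symm, if_pos rfl]; omega
  have hi' : co s' i ≠ 0 := by
    rw [hcs' i hi, hcos i hi, if_pos rfl, if_neg hmi]; omega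
  have off : ∀ {x k : ℕ}, x < D.rank → k < D.rank → k ≠ x → co s' k ≠ 0 →
      s' ≠ D.simple x ∧ s' ≠ D.neg (D.simple x) := by
    intro x k hx hk hne hco
    constructor <;> intro h <;> apply hco <;> rw [h]
    · rw [hF.co_simple x hx k hk, if_neg (Ne.symm hne)]
    · rw [hF.co_neg _ (hF.simple_lt' hx) k hk, hF.co_simple x hx k hk, if_neg (Ne.symm hne),
        neg_zero]
  obtain ⟨hi1, hi2⟩ := off hi hm hmi hm'
  obtain ⟨hm1, hm2⟩ := off hm hi hmi.symm hi'
  -- `x_s` is a conjugate of an element off both axes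
  obtain ⟨ηm, hm01, -, hm3⟩ := hF.exists_eta (F := K) hm
  obtain ⟨η, -, -, h3⟩ := hF.exists_eta (F := K) hi
  have hx : nG D y (D.simple m) 1 * y s' ((ηm s' : K) * t) * (nG D y (D.simple m) 1)⁻¹ = y s t := by
    rw [hL.tr_off hF (sub_swap hsub') hm1 hm2 hm3, hs'd, hF.refl_invol m hm s hsn, ← hs'd]
    rcases hm01 s' hsub'.1 with h | h <;> simp [h]
  have hu := hL.tr_off hF hsub' hi1 hi2 h3 ((ηm s' : K) * t)
  set z := nG D y (D.simple i) (1 : K) with hz
  -- the conjugated Weyl element lies in the rank one subgroup of `a`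
  set a := D.reflectRoot i (D.simple m) with had
  have hmsub : D.InRankTwoSub i m (D.simple m) := sub_swap (sub_simple hF hm hi)
  have hmm := hF.simple_lt' hm
  have hn1 : D.simple m ≠ D.simple i := fun h => hmi (hF.simple_inj hm hi h)
  have hn2 : D.simple m ≠ D.neg (D.simple i) := fun h => by
    have h1 := hF.co_simple m hm m hm
    rw [h, hF.co_neg _ hp m hm, hF.co_simple i hi m hm, if_neg hmi.symm, if_pos rfl] at h1
    omega
  have ea := hL.tr_off hF hmsub hn1 hn2 h3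
  have ena := hL.tr_off hF (sub_neg hF hmsub)
    (fun h => hn2 (by rw [← h, hF.neg_neg hmm]))
    (fun h => hn1 (by rw [← hF.neg_neg hmm, h, hF.neg_neg hp])) h3
  have hna : D.reflectRoot i (D.neg (D.simple m)) = D.neg a := hF.refl_neg i hi _ hmm
  set w := z * nG D y (D.simple m) (1 : K) * z⁻¹ with hw
  have hwmem : w ∈ ycl D y (fun r => r = a ∨ r = D.neg a) := by
    have han : a < D.nroots := hF.refl_lt i hi _ hmm
    rw [hw, nG, show z * (y (D.simple m) 1 * y (D.neg (D.simple m)) (-1⁻¹) * y (D.simple m) 1) *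
      z⁻¹ = (z * y (D.simple m) 1 * z⁻¹) * (z * y (D.neg (D.simple m)) (-1⁻¹) * z⁻¹) *
        (z * y (D.simple m) 1 * z⁻¹) by group, ea, ena, hna]
    exact mul_mem (mul_mem (mem_ycl han (Or.inl rfl) _) (mem_ycl (hF.neg_lt han) (Or.inr rfl) _))
      (mem_ycl han (Or.inl rfl) _)
  set u := D.reflectRoot i s' with hud
  have hasub : D.InRankTwoSub i m a := sub_refl hF hmsub (Or.inl rfl)
  have husub : D.InRankTwoSub i m u := sub_refl hF hsub' (Or.inl rfl)
  have hu1 : u ≠ a := fun h => hm1 (act_inj hF (l := [i]) (by simpa using hi) hsub'.1 hmm h)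
  have hu2 : u ≠ D.neg a := fun h =>
    hm2 (act_inj hF (l := [i]) (by simpa using hi) hsub'.1 (hF.neg_lt hmm) (h.trans hna.symm))
  obtain ⟨f, hf, hfa, hfu, hfq⟩ := hF.exists_halfspace hasub.1 husub.1 hu1 hu2
  have hq : D.InRankTwoSub i m (D.reflectRoot i s) := sub_refl hF hsub (Or.inl rfl)
  refine ⟨(η s : K) * t, ?_⟩
  have hfin : 0 < f (D.reflectRoot i s) := by
    rw [hfq _ hq.1 (-D.cartan m s) fun k hk => ?_]
    · exact hfu
    · have hlin := act_lin hF (l := [i]) 1 (D.cartan m s) (by simpa using hi) hsn hsub'.1 hmm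
        (fun k hk => by
          rw [hcs' k hk, hF.co_simple m hm k hk]
          split_ifs <;> ring) k hk
      simp only [act] at hlin
      rw [hlin]; ring
  rw [← hx, show z * (nG D y (D.simple m) 1 * y s' ((ηm s' : K) * t) *
      (nG D y (D.simple m) 1)⁻¹) * z⁻¹ = w * (z * y s' ((ηm s' : K) * t) * z⁻¹) * w⁻¹ by
    rw [hw]; group, hu]
  refine hL.transport hF hasub hf hfa hwmem husub hq hfu hfin ?_
  rw [← hL.proj u _ ⟨i, m, husub⟩, ← hu, ← map_inv, ← map_mul, ← map_mul,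
    show w * (z * y s' ((ηm s' : K) * t) * z⁻¹) * w⁻¹ = z * (nG D y (D.simple m) 1 *
      y s' ((ηm s' : K) * t) * (nG D y (D.simple m) 1)⁻¹) * z⁻¹ by rw [hw]; group,
    hx, map_mul, map_mul, map_inv, hz, hL.proj_nn hF hi, hL.proj s t ⟨i, m, hsub⟩, h3 s hsn,
    mul_inv_cancel_right]

/-- The relators inside rank two subsystems give a family of lifts. -/
theorem Loc2.fam (hN : HasNbr D) : Fam D π y where
  proj := hL.proj
  add := hL.add
  tr i j r h t := by
    by_cases hs : r = D.simple i ∨ r = D.neg (D.simple i)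
    · exact hL.tr_self hF hN h.2.1 hs t
    · push Not at hs
      obtain ⟨η, -, -, h3⟩ := hF.exists_eta (F := K) h.2.1
      exact ⟨_, hL.tr_off hF h hs.1 hs.2 h3 t⟩
  inj a b f hf z hz h1 := by
    refine hL.faithful hF (i := a) (j := b) hf ?_ h1
    refine Subgroup.closure_mono ?_ hz
    rintro x ⟨r, t, hr, hf', rfl⟩
    exact ⟨r, t, hr.1, ⟨hr, hf'⟩, rfl⟩
  hmul := hL.hmul

end L

end CfsgLib.Chev.CT
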