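/-
The Curtis–Tits presentation defines the group of Steinberg's presentation.
-/
import Cfsg.Agent.Lib.Chev.CT.Local

set_option autoImplicit false

namespace CfsgLib.Chev.CT

open Cfsg.Lie

universe u

variable {D : ChevalleyDatum} {co : ℕ → ℕ → ℤ} {K : Type u} [Field K]

theorem cwR_roots (hF : Facts D co) {i j r s : ℕ} {t u : K} (hr : D.InRankTwoSub i j r)
    (hs : D.InRankTwoSub i j s) {p : ℕ × K} (hp : p ∈ cwR D r s t u) :
    D.InRankTwoSub i j p.1 := by
  obtain ⟨c, hc, rfl⟩ := List.mem_map.1 hp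
  exact sub_terms hF hr hs hc

/-- The Curtis–Tits theorem. -/
theorem exists_iso (hF : Facts D co) (hC : CommF.{u} D) (hN : HasNbr D) (C : Cert D) :
    ∃ e : D.CurtisTitsGroup K ≃* D.SteinbergGroup K,
      ∀ (i j r : ℕ) (t : K), D.InRankTwoSub i j r →
        e (PresentedGroup.mk (D.curtisTitsRels K) (D.stX r t)) = D.stGen K r t := by
  classical
  obtain ⟨φ, hφ⟩ := hF.exists_theta hC (K := K)
  let b : Fin D.nroots × K → D.SteinbergGroup K := fun p =>
    if Loc D p.1.val then D.stGen K p.1.val p.2 else 1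
  let L : FreeGroup (Fin D.nroots × K) →* D.SteinbergGroup K := FreeGroup.lift b
  have hb : ∀ r t, Loc D r → L (D.stX r t) = D.stGen K r t := by
    rintro r t ⟨i, j, h⟩
    simp [L, b, ChevalleyDatum.stX, h.1, show Loc D r from ⟨i, j, h⟩]
  have hw : ∀ w : List (ℕ × K), (∀ p ∈ w, Loc D p.1) →
      L (D.stWord w) = PresentedGroup.mk (D.steinbergRels K) (D.stWord w) := by
    intro w h
    rw [ChevalleyDatum.stWord, map_list_prod, map_list_prod, List.map_map, List.map_map]
    exact congrArg List.prod (List.map_congr_left fun p hp => hb p.1 p.2 (h p hp))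
  have hh : ∀ r c, Loc D r → L (D.stH r c) = PresentedGroup.mk (D.steinbergRels K) (D.stH r c) := by
    intro r c h
    refine hw _ fun p hp => ?_
    simp only [ChevalleyDatum.hWord, ChevalleyDatum.nWord, List.mem_append, List.mem_cons,
      List.not_mem_nil, or_false] at hp
    rcases hp with (rfl | rfl | rfl) | (rfl | rfl | rfl) <;>
      first | exact h | exact loc_neg hF h
  have hrel : ∀ g ∈ D.curtisTitsRels K, L g = 1 := by
    rintro g (((⟨r, t, hr, hno, rfl⟩ | ⟨i, j, r, t, u, h, rfl⟩) |
      ⟨i, j, r, s, t, u, h, h', h1, h2, rfl⟩) | ⟨i, j, r, t, u, h, ht, hu, rfl⟩)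
    · have : ¬ Loc D r := fun ⟨i, j, h⟩ => hno i j h
      simp [L, b, ChevalleyDatum.stX, hr, this]
    · have hl : Loc D r := ⟨i, j, h⟩
      rw [map_mul, map_mul, map_inv, hb _ _ hl, hb _ _ hl, hb _ _ hl, mul_inv_eq_one,
        stGen_add h.1]
    · have hlr : Loc D r := ⟨i, j, h⟩
      have hls : Loc D s := ⟨i, j, h'⟩
      simp only [map_mul, map_inv, hb _ _ hlr, hb _ _ hls]
      rw [hw (D.commWord K r s t u) fun p hp => ⟨i, j, cwR_roots hF h h' (p := p) hp⟩]
      exact PresentedGroup.one_of_mem (rels := D.steinbergRels K)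
        (Or.inl (Or.inr ⟨r, s, t, u, h.1, h'.1, h1, h2, rfl⟩))
    · have hl : Loc D r := ⟨i, j, h⟩
      simp only [map_mul, map_inv, hh _ _ hl]
      exact PresentedGroup.one_of_mem (rels := D.steinbergRels K)
        (Or.inr ⟨r, t, u, h.1, ht, hu, rfl⟩)
  let E : D.CurtisTitsGroup K →* D.SteinbergGroup K := PresentedGroup.toGroup hrel
  let y : ℕ → K → D.CurtisTitsGroup K := fun r t =>
    PresentedGroup.mk (D.curtisTitsRels K) (D.stX r t)
  have hE : ∀ r t, Loc D r → E (y r t) = D.stGen K r t := hb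
  have hL : Loc2 D (φ.comp E) y := by
    refine ⟨fun r t h => ?_, fun r t u h => ?_, fun i j r s h h' h1 h2 t u => ?_, fun i hi a c ha hc => ?_⟩
    · obtain ⟨i, j, h'⟩ := id h
      rw [MonoidHom.comp_apply, hE r t h, hφ r t h'.1]
    · obtain ⟨i, j, h'⟩ := h
      rw [← mul_inv_eq_one]
      exact PresentedGroup.one_of_mem (rels := D.curtisTitsRels K)
        (Or.inl (Or.inl (Or.inr ⟨i, j, r, t, u, h', rfl⟩)))
    · have h0 := PresentedGroup.one_of_mem (rels := D.curtisTitsRels K)
        (Or.inl (Or.inr ⟨i, j, r, s, t, u, h, h', h1, h2, rfl⟩))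
      rw [map_mul, map_inv, mul_inv_eq_one, ChevalleyDatum.stWord, map_list_prod, List.map_map]
        at h0
      rw [show ((cwR D r s t u).map fun p => y p.1 p.2).prod =
        ((D.commWord K r s t u).map (PresentedGroup.mk (D.curtisTitsRels K) ∘
          fun p => D.stX p.1 p.2)).prod from rfl, ← h0]
      simp only [map_mul, map_inv, y]
      group
    · have hs := sub_simple hF hi hi
      have h0 := PresentedGroup.one_of_mem (rels := D.curtisTitsRels K)
        (Or.inr ⟨i, i, D.simple i, a, c, hs, ha, hc, rfl⟩)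
      rw [map_mul, map_mul, map_inv, mul_inv_eq_one] at h0
      have e : ∀ d, PresentedGroup.mk (D.curtisTitsRels K) (D.stH (D.simple i) d) =
          hG D y (D.simple i) d := fun d => by
        simp [ChevalleyDatum.stH, ChevalleyDatum.stWord, ChevalleyDatum.hWord,
          ChevalleyDatum.nWord, hG, nG, y, mul_assoc]
      rwa [e, e, e] at h0
  obtain ⟨ψ, hψ, -⟩ := exists_hom hF C (hL.fam hF hN) hC
  have h1 : ψ.comp E = MonoidHom.id _ := by
    refine PresentedGroup.ext fun p => ?_
    have e : PresentedGroup.of (rels := D.curtisTitsRels K) p = y p.1.val p.2 := by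
      simp [y, ChevalleyDatum.stX, PresentedGroup.of]
    by_cases hl : Loc D p.1.val
    · rw [e, MonoidHom.comp_apply, hE _ _ hl, hψ _ _ hl]
      rfl
    · have : y p.1.val p.2 = 1 := PresentedGroup.one_of_mem (rels := D.curtisTitsRels K)
        (Or.inl (Or.inl (Or.inl ⟨p.1.val, p.2, p.1.isLt, fun i j h => hl ⟨i, j, h⟩, rfl⟩)))
      rw [e, this, map_one, map_one]
  have h2 : E.comp ψ = MonoidHom.id _ := by
    have hgen : ∀ r, r < D.nroots → ∀ t : K, E (ψ (D.stGen K r t)) = D.stGen K r t := fun r hr =>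
      hF.root_induction (P := fun r => ∀ t : K, E (ψ (D.stGen K r t)) = D.stGen K r t)
        (fun i hi t => by
          rw [hψ _ _ (loc_simple hF hi), hE _ _ (loc_simple hF hi)])
        (fun i hi s hs ih t => by
          obtain ⟨η, h1, -, h3⟩ := hF.exists_eta (F := K) hi
          have hp := hF.simple_lt' hi
          have hn : E (ψ (stNG D (D.simple i) (1 : K))) = stNG D (D.simple i) (1 : K) := by
            simp only [stNG, map_mul, hψ _ _ (loc_simple hF hi),
              hψ _ _ (loc_neg hF (loc_simple hF hi)), hE _ _ (loc_simple hF hi),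
              hE _ _ (loc_neg hF (loc_simple hF hi))]
          have hc : stNG D (D.simple i) (1 : K) * D.stGen K s ((η s : K) * t) *
              (stNG D (D.simple i) (1 : K))⁻¹ = D.stGen K (D.reflectRoot i s) t := by
            refine hF.stTr_eq hφ (hF.stTr_simple hφ hN hi one_ne_zero) hs (hF.refl_lt i hi s hs) ?_
            rw [hφ.map_stNG hF hp, h3 s hs, mul_inv_cancel_right]
            rcases h1 s hs with e | e <;> simp [e]
          rw [← hc]
          simp only [map_mul, map_inv, hn, ih]) hr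
    refine PresentedGroup.ext fun p => ?_
    have e : PresentedGroup.of (rels := D.steinbergRels K) p = D.stGen K p.1.val p.2 := by
      simp [ChevalleyDatum.stGen, ChevalleyDatum.stX, PresentedGroup.of]
    rw [e, MonoidHom.comp_apply, hgen _ p.1.isLt]
    rfl
  exact ⟨E.toMulEquiv ψ h1 h2, fun i j r t h => hE r t ⟨i, j, h⟩⟩

end CfsgLib.Chev.CT
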